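import Groth.Prelude.Def_GrTwist
import Mathlib.RingTheory.GradedAlgebra.Homogeneous.Ideal

/-!
# Criterion for the comparison map of twisting sheaves to be bijective on sections
-/

set_option autoImplicit false
set_option backward.isDefEq.respectTransparency false
set_option backward.isDefEq.respectTransparency.types false
universe u
open CategoryTheory AlgebraicGeometry TopologicalSpace Opposite
open scoped HomogeneousIdeal

noncomputable section

namespace GrTwCompLib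

open GrTwist

variable {A σ : Type u} [CommRing A] [SetLike σ A] [AddSubgroupClass σ A] {𝒜 : ℕ → σ} [GradedRing 𝒜]
  {B τ : Type u} [CommRing B] [SetLike τ B] [AddSubgroupClass τ B] {ℬ : ℕ → τ} [GradedRing ℬ]

/-- Every degree `n` fraction at a point is a single fraction. -/
theorem exists_frac (n : ℤ) (x : ProjectiveSpectrum 𝒜) {q : Loc 𝒜 x} (hq : q ∈ twistAt 𝒜 n x) :
    ∃ (i j : ℕ) (a : 𝒜 i) (s : 𝒜 j) (hs : (s : A) ∉ x.asHomogeneousIdeal),
      ((i : ℤ) = j + n ∨ (a : A) = 0) ∧ q = Localization.mk (a : A) ⟨s, hs⟩ := by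
  induction hq using Submodule.span_induction with
  | mem q h =>
    obtain ⟨i, j, a, s, hs, hij, rfl⟩ := h
    exact ⟨i, j, a, s, hs, Or.inl hij, rfl⟩
  | zero =>
    exact ⟨0, 0, ⟨0, zero_mem _⟩, ⟨1, SetLike.GradedOne.one_mem⟩,
      fun h => x.isPrime.ne_top ((Ideal.eq_top_iff_one _).mpr h), Or.inr rfl, (Localization.mk_zero _).symm⟩
  | add q q' _ _ h h' =>
    obtain ⟨i, j, a, s, hs, hij, rfl⟩ := h
    obtain ⟨i', j', a', s', hs', hij', rfl⟩ := h'
    rcases hij with h1 | h1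
    · rcases hij' with h2 | h2
      · have hmem : (a : A) * s' ∈ 𝒜 (i + j') := SetLike.mul_mem_graded a.2 s'.2
        have hmem' : (s : A) * a' ∈ 𝒜 (i + j') := by
          have e : j + i' = i + j' := by omega
          exact e ▸ SetLike.mul_mem_graded s.2 a'.2
        refine ⟨i + j', j + j', ⟨_, add_mem hmem' hmem⟩, ⟨_, SetLike.mul_mem_graded s.2 s'.2⟩,
          fun h => (x.isPrime.mem_or_mem h).elim hs hs', Or.inl (by push_cast; omega), ?_⟩
        rw [Localization.add_mk]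
        congr 1
        ring
      · exact ⟨i, j, a, s, hs, Or.inl h1, by rw [h2, Localization.mk_zero, add_zero]⟩
    · exact ⟨i', j', a', s', hs', hij', by rw [h1, Localization.mk_zero, zero_add]⟩
  | smul c q _ h =>
    obtain ⟨i, j, a, s, hs, hij, rfl⟩ := h
    obtain ⟨⟨k, r, t, ht⟩, rfl⟩ := HomogeneousLocalization.mk_surjective c
    refine ⟨k + i, k + j, ⟨_, SetLike.mul_mem_graded r.2 a.2⟩, ⟨_, SetLike.mul_mem_graded t.2 s.2⟩,
      fun h => (x.isPrime.mem_or_mem h).elim ht hs, ?_, ?_⟩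
    · rcases hij with h | h
      · exact Or.inl (by push_cast; omega)
      · exact Or.inr (by show (r : A) * a = 0; rw [h, mul_zero])
    · rw [Algebra.smul_def, HomogeneousLocalization.algebraMap_apply, HomogeneousLocalization.val_mk,
        Localization.mk_mul]
      rfl

theorem mk_mem (n : ℤ) (x : ProjectiveSpectrum 𝒜) {i j : ℕ} (a : 𝒜 i) (s : 𝒜 j)
    (hs : (s : A) ∉ x.asHomogeneousIdeal) (h : (i : ℤ) = j + n ∨ (a : A) = 0) :
    Localization.mk (a : A) (⟨s, hs⟩ : x.asHomogeneousIdeal.toIdeal.primeCompl) ∈ twistAt 𝒜 n x := by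
  rcases h with h | h
  · exact Submodule.subset_span ⟨i, j, a, s, hs, h, rfl⟩
  · rw [h, Localization.mk_zero]; exact zero_mem _

variable (ψ : 𝒜 →+*ᵍ ℬ) (hψ : ℬ₊ ≤ (𝒜₊).map ψ)

/-- `ψ` reflects vanishing of homogeneous elements locally at each point. -/
def Inj : Prop :=
  ∀ (y : ProjectiveSpectrum ℬ) (i : ℕ), ∀ a ∈ 𝒜 i, ∀ u : B, u ∉ y.asHomogeneousIdeal → u * ψ a = 0 →
    ∃ c : A, ψ c ∉ y.asHomogeneousIdeal ∧ c * a = 0

/-- homogeneous fractions downstairs come, locally at each point, from homogeneous fractions upstairs. -/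
def Lift : Prop :=
  ∀ (y : ProjectiveSpectrum ℬ) (i j : ℕ), ∀ b ∈ ℬ i, ∀ w ∈ ℬ j, w ∉ y.asHomogeneousIdeal →
    ∃ (m : ℕ) (a c : A) (v : B), a ∈ 𝒜 (m + i) ∧ c ∈ 𝒜 (m + j) ∧ v ∉ y.asHomogeneousIdeal ∧
      ψ a = v * b ∧ ψ c = v * w

variable {ψ}

theorem eq_zero_of_locMap (hI : Inj ψ) (n : ℤ) (y : ProjectiveSpectrum ℬ)
    {q : Loc 𝒜 (ProjectiveSpectrum.comap ψ hψ y)} (hq : q ∈ twistAt 𝒜 n (ProjectiveSpectrum.comap ψ hψ y))
    (h0 : locMap ψ hψ y q = 0) : q = 0 := by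
  obtain ⟨i, j, a, s, hs, -, rfl⟩ := exists_frac n _ hq
  rw [locMap_mk, Localization.mk_eq_mk', IsLocalization.mk'_eq_zero_iff] at h0
  obtain ⟨⟨w, hw⟩, hw0⟩ := h0
  obtain ⟨c, hc, hca⟩ := hI y i a a.2 w hw hw0
  rw [Localization.mk_eq_mk', IsLocalization.mk'_eq_zero_iff]
  exact ⟨⟨c, hc⟩, hca⟩

theorem eq_of_locMap (hI : Inj ψ) (n : ℤ) (y : ProjectiveSpectrum ℬ)
    {q q' : Loc 𝒜 (ProjectiveSpectrum.comap ψ hψ y)} (hq : q ∈ twistAt 𝒜 n (ProjectiveSpectrum.comap ψ hψ y))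
    (hq' : q' ∈ twistAt 𝒜 n (ProjectiveSpectrum.comap ψ hψ y))
    (h : locMap ψ hψ y q = locMap ψ hψ y q') : q = q' :=
  sub_eq_zero.mp (eq_zero_of_locMap hψ hI n y (sub_mem hq hq') (by rw [map_sub, h, sub_self]))

theorem comap_injective (hL : Lift ψ) : Function.Injective (ProjectiveSpectrum.comap ψ hψ) := by
  intro y y' h
  have hm : ∀ z : A, ψ z ∈ y.asHomogeneousIdeal ↔ ψ z ∈ y'.asHomogeneousIdeal := fun z =>
    iff_of_eq (congrArg (fun p : ProjectiveSpectrum 𝒜 => z ∈ p.asHomogeneousIdeal) h)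
  have one_nin : ∀ p : ProjectiveSpectrum ℬ, (1 : B) ∉ p.asHomogeneousIdeal := fun p h' =>
    p.isPrime.ne_top ((Ideal.eq_top_iff_one _).mpr h')
  have sub : ∀ p p' : ProjectiveSpectrum ℬ,
      (∀ z, ψ z ∈ p.asHomogeneousIdeal ↔ ψ z ∈ p'.asHomogeneousIdeal) →
        p.asHomogeneousIdeal ≤ p'.asHomogeneousIdeal := by
    intro p p' hp b hb
    classical
    rw [← DirectSum.sum_support_decompose ℬ b]
    refine sum_mem fun k _ => ?_
    have hbk : ((DirectSum.decompose ℬ b k : ℬ k) : B) ∈ p.asHomogeneousIdeal :=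
      p.asHomogeneousIdeal.isHomogeneous k hb
    obtain ⟨m, a, c, v, -, -, hv, hav, hcv⟩ :=
      hL p' k 0 _ (DirectSum.decompose ℬ b k).2 1 SetLike.GradedOne.one_mem (one_nin p')
    have h1 : ψ a ∈ p'.asHomogeneousIdeal := (hp a).1 (hav ▸ Ideal.mul_mem_left _ v hbk)
    rw [hav] at h1
    exact (p'.isPrime.mem_or_mem h1).resolve_left hv
  exact ProjectiveSpectrum.ext (le_antisymm (sub y y' hm) (sub y' y fun z => (hm z).symm))

/-- On opens lying in the image, the comparison map is bijective on sections. -/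
theorem bijective_comap_app (hI : Inj ψ) (hL : Lift ψ) (hopen : IsOpenMap (ProjectiveSpectrum.comap ψ hψ))
    (n : ℤ) (U : Opens (ProjectiveSpectrum.top 𝒜))
    (hU : ∀ x ∈ U, ∃ y, ProjectiveSpectrum.comap ψ hψ y = x)
    (V : Opens (ProjectiveSpectrum.top ℬ)) (hV : V.1 = ProjectiveSpectrum.comap ψ hψ ⁻¹' U.1) :
    Function.Bijective (comapApp ψ hψ n U V hV.le) := by
  have hVU : ∀ y, ProjectiveSpectrum.comap ψ hψ y ∈ U → y ∈ V := fun y h => hV.symm.le h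
  constructor
  · intro s s' hss
    refine Subtype.ext (funext fun ⟨x, hx⟩ => Subtype.ext ?_)
    obtain ⟨y, rfl⟩ := hU x hx
    refine eq_of_locMap hψ hI n y (s.1 ⟨_, hx⟩).2 (s'.1 ⟨_, hx⟩).2 ?_
    exact congrArg (fun t : sectN (𝒜 := ℬ) n (op V) => (t.1 ⟨y, hVU y hx⟩).1) hss
  · intro t
    let P : ∀ x : U, Loc 𝒜 x.1 → Prop := fun x q =>
      ∃ (i j : ℕ) (a : 𝒜 i) (c : 𝒜 j) (hc : (c : A) ∉ x.1.asHomogeneousIdeal),
        ((i : ℤ) = j + n ∨ (a : A) = 0) ∧ q = Localization.mk (a : A) ⟨c, hc⟩ ∧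
        ∀ (y : ProjectiveSpectrum ℬ) (hy : ProjectiveSpectrum.comap ψ hψ y = x.1),
          (t.1 ⟨y, hVU y (hy ▸ x.2)⟩).1 =
            Localization.mk (ψ a) (⟨ψ (c : A), fun h => hc (hy ▸ h)⟩ : y.asHomogeneousIdeal.toIdeal.primeCompl)
    have memP : ∀ x q, P x q → q ∈ twistAt 𝒜 n x.1 := by
      rintro x q ⟨i, j, a, c, hc, hd, rfl, -⟩
      exact mk_mem n x.1 a c hc hd
    have uniq : ∀ x q q', P x q → P x q' → q = q' := by
      rintro ⟨x, hx⟩ q q' hp hp'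
      obtain ⟨y, rfl⟩ := hU x hx
      refine eq_of_locMap hψ hI n y (memP ⟨_, hx⟩ q hp) (memP ⟨_, hx⟩ q' hp') ?_
      obtain ⟨i, j, a, c, hc, hd, rfl, he⟩ := hp
      obtain ⟨i', j', a', c', hc', hd', rfl, he'⟩ := hp'
      rw [locMap_mk, locMap_mk]
      exact (he y rfl).symm.trans (he' y rfl)
    -- the local shape of a preimage
    have key : ∀ x : U, ∃ (W : Opens (ProjectiveSpectrum.top 𝒜)) (i j : ℕ) (a : 𝒜 i) (c : 𝒜 j)
        (hc : ∀ z ∈ W, (c : A) ∉ z.asHomogeneousIdeal), x.1 ∈ W ∧ W ≤ U ∧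
        ((i : ℤ) = j + n ∨ (a : A) = 0) ∧
        ∀ (y : ProjectiveSpectrum ℬ) (hW : ProjectiveSpectrum.comap ψ hψ y ∈ W) (hyV : y ∈ V),
          (t.1 ⟨y, hyV⟩).1 = Localization.mk (ψ a) ⟨ψ (c : A), hc _ hW⟩ := by
      rintro ⟨x, hx⟩
      obtain ⟨y₀, rfl⟩ := hU x hx
      obtain ⟨W₁, hyW, iW, i, j, b, w, hw, hd, heq⟩ := t.2 ⟨y₀, hVU y₀ hx⟩
      obtain ⟨m, a, c, v, ha, hc, hv, hav, hcv⟩ := hL y₀ i j b b.2 w w.2 (hw ⟨y₀, hyW⟩)
      let W₂ : Set (ProjectiveSpectrum ℬ) := W₁.1 ∩ (ProjectiveSpectrum.basicOpen ℬ (ψ c)).1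
      have hW₂ : IsOpen W₂ := W₁.2.inter (ProjectiveSpectrum.basicOpen ℬ (ψ c)).2
      have hψc : ψ c ∉ y₀.asHomogeneousIdeal := by
        rw [hcv]
        exact fun h => (y₀.isPrime.mem_or_mem h).elim hv (hw ⟨y₀, hyW⟩)
      haveI : Decidable ((b : B) = 0) := Classical.propDecidable _
      refine ⟨⟨ProjectiveSpectrum.comap ψ hψ '' W₂, hopen _ hW₂⟩, m + i, m + j,
        ⟨if (b : B) = 0 then 0 else a, ?_⟩, ⟨c, hc⟩, ?_, ⟨y₀, ⟨hyW, hψc⟩, rfl⟩, ?_, ?_, ?_⟩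
      · split
        · exact zero_mem _
        · exact ha
      · rintro z ⟨y, hy, rfl⟩
        exact hy.2
      · rintro z ⟨y, hy, rfl⟩
        exact hV.le (iW.le hy.1)
      · rcases hd with h | h
        · exact Or.inl (by push_cast; omega)
        · exact Or.inr (if_pos h)
      · rintro y ⟨y', hy', hyy⟩ hyV
        have hyy' : y = y' := (comap_injective hψ hL hyy).symm
        subst hyy'
        refine (heq ⟨y, hy'.1⟩).trans ?_
        rw [Localization.mk_eq_mk_iff, Localization.r_iff_exists]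
        refine ⟨1, ?_⟩
        show (1 : B) * (ψ c * b) = 1 * (w * ψ (if (b : B) = 0 then 0 else a))
        split_ifs with h0
        · simp [h0]
        · rw [hav, hcv]; ring
    have exP : ∀ x : U, ∃ q, P x q := fun x => by
      obtain ⟨W, i, j, a, c, hc, hxW, -, hd, he⟩ := key x
      exact ⟨_, i, j, a, c, hc _ hxW, hd, rfl, fun y hy => he y (hy ▸ hxW) _⟩
    choose q hq using exP
    let s : ∀ x : U, twistAt 𝒜 n x.1 := fun x => ⟨q x, memP x _ (hq x)⟩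
    refine ⟨⟨s, fun x => ?_⟩, Subtype.ext (funext fun ⟨y, hy⟩ => Subtype.ext ?_)⟩
    · obtain ⟨W, i, j, a, c, hc, hxW, hWU, hd, he⟩ := key x
      refine ⟨W, hxW, homOfLE hWU, i, j, a, c, fun z => hc z.1 z.2, hd, fun z => ?_⟩
      exact uniq ⟨z.1, hWU z.2⟩ _ _ (hq _)
        ⟨i, j, a, c, hc z.1 z.2, hd, rfl, fun y hy => he y (hy ▸ z.2) _⟩
    · obtain ⟨i, j, a, c, hc, hd, hqe, he⟩ := hq ⟨ProjectiveSpectrum.comap ψ hψ y, hV.le hy⟩
      refine (congrArg (locMap ψ hψ y) hqe).trans ?_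
      rw [locMap_mk]
      exact (he y rfl).symm

end GrTwCompLib
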